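import Cfsg.Agent.Lib.FT.P.BG4a1

/-! Norm maps for a group acting on an abelian group. -/

set_option autoImplicit false

namespace Cfsg.Agent.INW

open Subgroup Cfsg.Agent.Tr Finset MulAction

variable {H V : Type*} [Group H] [Fintype H] [CommGroup V] [MulDistribMulAction H V]

open Classical in
/-- The norm map of a subgroup. -/
noncomputable def Nm (B : Subgroup H) : V →* V where
  toFun v := ∏ b ∈ univ.filter (· ∈ B), b • v
  map_one' := by simp
  map_mul' := by simp [smul_mul', prod_mul_distrib]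

theorem Nm_fix {B : Subgroup H} {v : V} (h : B ≤ stabilizer H v) : Nm B v = v ^ Nat.card B := by
  classical
  change ∏ b ∈ univ.filter (· ∈ B), b • v = _
  rw [prod_congr rfl (fun b hb => mem_stabilizer_iff.1 (h (mem_filter.1 hb).2)), prod_const,
    Nat.card_eq_fintype_card, Fintype.card_subtype]

theorem smul_Nm (g : H) (B : Subgroup H) (v : V) : g • Nm B v = Nm (cj g B) (g • v) := by
  classical
  change g • ∏ b ∈ univ.filter (· ∈ B), b • v = ∏ b ∈ univ.filter (· ∈ cj g B), b • g • v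
  rw [Finset.smul_prod']
  refine prod_equiv (MulAut.conj g).toEquiv (fun b => by simp) fun b _ => ?_
  simp [mul_smul]

theorem Nm_smul {B : Subgroup H} {b : H} (hb : b ∈ B) (v : V) : Nm B (b • v) = Nm B v := by
  classical
  change ∏ c ∈ univ.filter (· ∈ B), c • b • v = ∏ c ∈ univ.filter (· ∈ B), c • v
  refine prod_equiv (Equiv.mulRight b) (fun c => by simp [B.mul_mem_cancel_right hb]) fun c _ => ?_
  simp [mul_smul]

theorem fix_Nm (B : Subgroup H) (v : V) : B ≤ stabilizer H (Nm B v) := fun b hb => by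
  rw [mem_stabilizer_iff, smul_Nm, cj_eq_of_mem hb, Nm_smul hb]

variable (V) in
/-- `B` has maximal order among the subgroups of `A` with a nontrivial fixed point. -/
def Mx (A B : Subgroup H) : Prop :=
  B ≤ A ∧ ∀ C ≤ A, ∀ u : V, u ≠ 1 → C ≤ stabilizer H u → Nat.card C ≤ Nat.card B

theorem exists_Mx [Nontrivial V] (A : Subgroup H) :
    ∃ (B : Subgroup H) (u : V), u ≠ 1 ∧ B ≤ stabilizer H u ∧ Mx V A B := by
  obtain ⟨u0, h0⟩ := exists_ne (1 : V)
  obtain ⟨B, ⟨hB, u, hu, hBu⟩, hm⟩ := Set.exists_max_image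
    {C : Subgroup H | C ≤ A ∧ ∃ u : V, u ≠ 1 ∧ C ≤ stabilizer H u} (fun C => Nat.card C)
    (Set.toFinite _) ⟨⊥, bot_le, u0, h0, bot_le⟩
  exact ⟨B, u, hu, hBu, hB, fun C hC w hw h => hm C ⟨hC, w, hw, h⟩⟩

theorem Mx.le {A B C D : Subgroup H} (h : Mx V A B) (hC : C ≤ A) (hD : D ≤ A)
    (hc : Nat.card C = Nat.card B) {u : V} (hu : u ≠ 1) (h1 : C ≤ stabilizer H u)
    (h2 : D ≤ stabilizer H u) : D ≤ C := by
  have := h.2 (C ⊔ D) (sup_le hC hD) u hu (sup_le h1 h2)
  rw [eq_of_le_of_card_ge (le_sup_left : C ≤ C ⊔ D) (hc ▸ this)]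
  exact le_sup_right

theorem Mx.other {A B C D : Subgroup H} (h : Mx V A B) (hA : A ≤ centralizer (A : Set H))
    (hC : C ≤ A) (hD : D ≤ A) (hc : Nat.card C = Nat.card B) (hd : Nat.card D = Nat.card B)
    (hne : C ≠ D) {w : V} (hw : D ≤ stabilizer H w) : Nm C w = 1 := by
  by_contra hu
  refine hne (eq_of_le_of_card_ge (h.le hC hD hc hu (fix_Nm C w) fun d hd' => ?_)
    (by rw [hc, hd])).symm
  rw [mem_stabilizer_iff, smul_Nm, cj_eq_of_mem_centralizer (centralizer_le hC (hA (hD hd'))),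
    mem_stabilizer_iff.1 (hw hd')]

omit [Fintype H] in
theorem cj_le_stab {B : Subgroup H} {w : V} (hw : B ≤ stabilizer H w) (g : H) :
    cj g B ≤ stabilizer H (g • w) := cj_le_iff.2 fun b hb => by
  rw [mem_stabilizer_iff, mul_smul, inv_smul_smul, mul_smul, mem_stabilizer_iff.1 (hw hb)]

theorem Mx.prod_other {A B C : Subgroup H} (h : Mx V A B) (hA : A ≤ centralizer (A : Set H))
    {ι : Type*} (T : Finset ι) (t : ι → H) (ht : ∀ i, t i ∈ normalizer (A : Set H)) {w : V}
    (hw : B ≤ stabilizer H w) (hC : C ≤ A) (hc : Nat.card C = Nat.card B)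
    (hne : ∀ i ∈ T, C ≠ cj (t i) B) : Nm C (∏ i ∈ T, t i • w) = 1 := by
  rw [map_prod]
  exact prod_eq_one fun i hi => h.other hA hC
    ((cj_mono _ h.1).trans (cj_eq_of_mem_normalizer (ht i)).le) hc (card_cj _ _) (hne i hi)
    (cj_le_stab hw _)

theorem Mx.prod_self {A B : Subgroup H} (h : Mx V A B) (hA : A ≤ centralizer (A : Set H))
    {ι : Type*} (T : Finset ι) (t : ι → H) (ht : ∀ i, t i ∈ normalizer (A : Set H)) {w : V}
    (hw : B ≤ stabilizer H w) (hinj : ∀ i j, cj (t i) B = cj (t j) B → i = j) {i : ι}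
    (hi : i ∈ T) : Nm (cj (t i) B) (∏ i ∈ T, t i • w) = (t i • w) ^ Nat.card B := by
  classical
  rw [← mul_prod_erase T _ hi, map_mul, h.prod_other hA _ t ht hw
    ((cj_mono _ h.1).trans (cj_eq_of_mem_normalizer (ht i)).le) (card_cj _ _)
    (fun j hj he => (mem_erase.1 hj).1 (hinj _ _ he).symm), mul_one, Nm_fix (cj_le_stab hw _),
    card_cj]

omit [Fintype H] in
theorem tele {x : H} {n : ℕ} (hx : x ^ n = 1) (w : V) :
    x • ∏ i ∈ range n, x ^ i • w = ∏ i ∈ range n, x ^ i • w := by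
  have h1 := prod_range_succ (fun i => x ^ i • w) n
  rw [prod_range_succ', hx, pow_zero] at h1
  rw [Finset.smul_prod', ← mul_right_cancel h1]
  exact prod_congr rfl fun i _ => by rw [pow_succ', mul_smul]

omit [Fintype H] in
theorem cyc {a z : H} {p : ℕ} (haz : Commute a z) (ha : a ^ p = 1) (hz : z ^ p = 1)
    (hf : ∀ j, 0 < j → j < p → ∀ u : V, z ^ j • u = u → u = 1) {w : V} (hw : w ^ p ≠ 1) :
    ∃ i, ∃ u : V, u ≠ 1 ∧ (a * z ^ i) • u = u ∧
      ∀ g, Commute g a → Commute g z → g • w = w → g • u = u := by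
  by_contra hc
  push Not at hc
  have h1 : ∀ i, ∏ j ∈ range p, (a * z ^ i) ^ j • w = 1 := by
    intro i
    by_contra hne
    obtain ⟨g, h1, h2, h3, h4⟩ := hc i _ hne (tele (by
      rw [(haz.pow_right i).mul_pow, ha, ← pow_mul, mul_comm, pow_mul, hz]; simp) w)
    refine h4 ?_
    rw [Finset.smul_prod']
    refine prod_congr rfl fun j _ => ?_
    rw [← mul_smul, ((h1.mul_right (h2.pow_right i)).pow_right j).eq, mul_smul, h3]
  have h2 : ∏ i ∈ range p, ∏ j ∈ range p, (a * z ^ i) ^ j • w = 1 :=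
    prod_eq_one fun i _ => h1 i
  rw [prod_comm] at h2
  rcases Nat.eq_zero_or_pos p with rfl | hp
  · simp at hw
  rw [prod_eq_single 0 (fun j hj h0 => ?_) (fun h => absurd (mem_range.2 hp) h)] at h2
  · simp at h2; exact hw h2
  · have h3 := hf j (Nat.pos_of_ne_zero h0) (mem_range.1 hj) _
      (tele (x := z ^ j) (n := p) (by rw [← pow_mul, mul_comm, pow_mul, hz, one_pow]) w)
    rw [← smul_one (a ^ j), ← h3, Finset.smul_prod']
    refine prod_congr rfl fun i _ => ?_
    rw [(haz.pow_right i).mul_pow, mul_smul, ← pow_mul, ← pow_mul, mul_comm i j]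

end Cfsg.Agent.INW
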