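import Cfsg.Agent.Lib.INW.Reg1

/-! A normal `p`-subgroup (`p` odd) acting coprimely has a vector whose stabilizer has
proper normal closure. -/

set_option autoImplicit false

namespace Cfsg.Agent.INW

open Subgroup Cfsg.Agent.Tr Cfsg.Agent.FT Finset MulAction
open scoped commutatorElement

universe v

/-- The conclusion. -/
def Concl {H : Type*} (V : Type*) [Group H] [CommGroup V] [MulDistribMulAction H V]
    (K : Subgroup H) : Prop :=
  ∃ v : V, ∃ L : Subgroup H, L.Normal ∧ ¬ K ≤ L ∧ K ⊓ stabilizer H v ≤ L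

/-- The statement for a fixed module. -/
def R (p : ℕ) (V : Type v) [CommGroup V] : Prop :=
  ∀ (H : Type v) [Group H] [Finite H] [MulDistribMulAction H V] (K : Subgroup H), K.Normal →
    (∀ k ∈ K, ∃ n, ∀ v : V, k ^ p ^ n • v = v) → (∃ k ∈ K, ∃ v : V, k • v ≠ v) → Concl V K

theorem R_of_faithful {p : ℕ} {V : Type v} [CommGroup V] [Finite V]
    (h : ∀ (H : Type v) [Group H] [Finite H] [MulDistribMulAction H V] [FaithfulSMul H V]
      (K : Subgroup H), K.Normal → IsPGroup p K → K ≠ ⊥ → Concl V K) : R p V := by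
  intro H _ _ _ K hK hp ⟨k, hk, u, hu⟩
  set φ := (MulDistribMulAction.toMulAut H V).rangeRestrict
  have hs : Function.Surjective φ := MonoidHom.rangeRestrict_surjective _
  have sm : ∀ (g : H) (v : V), φ g • v = g • v := fun _ _ => rfl
  obtain ⟨v, L, hL, h1, h2⟩ := h _ (K.map φ) (hK.map φ hs) (by
    rintro ⟨_, x, hx, rfl⟩
    obtain ⟨n, hn⟩ := hp x hx
    refine ⟨n, Subtype.ext (eq_of_smul_eq_smul (α := V) fun v => ?_)⟩
    change (φ x ^ p ^ n) • v = (1 : (MulDistribMulAction.toMulAut H V).range) • v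
    rw [← map_pow, sm, hn, one_smul]) (by
    intro h0
    have : φ k ∈ (⊥ : Subgroup _) := h0 ▸ mem_map_of_mem φ hk
    rw [mem_bot] at this
    exact hu (by rw [← sm, this, one_smul]))
  exact ⟨v, L.comap φ, hL.comap φ, fun h3 => h1 (map_le_iff_le_comap.2 h3),
    fun x hx => h2 ⟨mem_map_of_mem φ hx.1, hx.2⟩⟩

/-- Restriction of an action to an invariant subgroup. -/
@[reducible] def subAct {H V : Type*} [Group H] [CommGroup V] [MulDistribMulAction H V]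
    (H0 : Subgroup H) (W : Subgroup V) (h : ∀ g ∈ H0, ∀ w ∈ W, g • w ∈ W) :
    MulDistribMulAction H0 W where
  smul g w := ⟨(g : H) • (w : V), h _ g.2 _ w.2⟩
  one_smul w := Subtype.ext (one_smul H (w : V))
  mul_smul g g' w := Subtype.ext (mul_smul (g : H) (g' : H) (w : V))
  smul_mul g a b := Subtype.ext (smul_mul' (g : H) (a : V) (b : V))
  smul_one g := Subtype.ext (smul_one (g : H))

theorem R.sub {p : ℕ} {H V : Type v} [Group H] [Finite H] [CommGroup V] [MulDistribMulAction H V]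
    {K H0 : Subgroup H} [K.Normal] (hp : IsPGroup p K) (hK : K ≤ H0) {W : Subgroup V}
    (hR : R p W) (h : ∀ g ∈ H0, ∀ w ∈ W, g • w ∈ W) (hn : ∃ k ∈ K, ∃ w ∈ W, k • w ≠ w) :
    ∃ w ∈ W, ∃ L : Subgroup H, H0 ≤ 𝐍(L) ∧ ¬ K ≤ L ∧ K ⊓ stabilizer H w ≤ L := by
  letI := subAct H0 W h
  obtain ⟨k, hk, w, hw, hkw⟩ := hn
  obtain ⟨v, L, hL, h1, h2⟩ := hR H0 (K.subgroupOf H0) inferInstance (fun x hx => by
    obtain ⟨n, hn⟩ := hp ⟨x, hx⟩
    have : x ^ p ^ n = 1 := Subtype.ext (congrArg (fun y : K => (y : H)) hn)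
    exact ⟨n, fun v => by rw [this, one_smul]⟩)
    ⟨⟨k, hK hk⟩, hk, ⟨w, hw⟩, fun h0 => hkw (congrArg Subtype.val h0)⟩
  refine ⟨v, v.2, L.map H0.subtype, fun g hg => ?_, fun h3 => h1 fun x hx => ?_, fun x hx => ?_⟩
  · refine mem_normalizer_of_cj_le (cj_le_iff.2 ?_)
    rintro _ ⟨a, ha, rfl⟩
    exact ⟨_, hL.conj_mem a ha ⟨g, hg⟩, rfl⟩
  · obtain ⟨y, hy, he⟩ := h3 hx
    rwa [← Subtype.ext he]
  · exact ⟨⟨x, hK hx.1⟩, h2 ⟨hx.1, Subtype.ext hx.2⟩, rfl⟩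

variable {H V : Type*} [Group H] [Fintype H] [CommGroup V] [MulDistribMulAction H V]

omit [Fintype H] in
theorem fix_of_pow {n : ℕ} (hn : (Nat.card V).Coprime n) {k : H} {x : V}
    (h : k • x ^ n = x ^ n) : k • x = x :=
  (powCoprime hn).injective (by simpa [smul_pow'] using h)

omit [Fintype H] in
theorem smul_eq_one' {k : H} {x : V} (h : k • x = 1) : x = 1 := by
  rw [← inv_smul_smul k x, h, smul_one]

theorem central_case {K A B L : Subgroup H} [hK : K.Normal] [A.Normal] (hA : K ≤ 𝐂(A))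
    (hAK : A ≤ K) (hc : (Nat.card V).Coprime (Nat.card B)) (h : Mx V A B) {w : V}
    (hw : B ≤ stabilizer H w) (hL : 𝐍(B) ≤ 𝐍(L)) (h1 : ¬ K ≤ L)
    (h2 : K ⊓ stabilizer H w ≤ L) : Concl V K := by
  classical
  haveI := Fintype.ofFinite (H ⧸ 𝐍(B))
  refine ⟨∏ q : H ⧸ 𝐍(B), q.out • w, L.normalCore, inferInstance,
    fun h3 => h1 (h3.trans L.normalCore_le), fun k hk g => ?_⟩
  obtain ⟨s, hs⟩ := QuotientGroup.mk_out_eq_mul 𝐍(B) g⁻¹
  set t := ((g⁻¹ : H) : H ⧸ 𝐍(B)).out with ht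
  have h3 := h.prod_self (hAK.trans hA) univ (fun q : H ⧸ 𝐍(B) => q.out)
    (fun _ => le_normalizer_of_normal (mem_top _)) hw (fun i j hij => by
      rw [← i.out_eq', ← j.out_eq', QuotientGroup.eq, ← cj_eq_iff, cj_mul, ← hij, cj_inv_cj])
    (mem_univ ((g⁻¹ : H) : H ⧸ 𝐍(B)))
  have h4 : k • (t • w) = t • w := by
    refine fix_of_pow hc ?_
    rw [← h3, smul_Nm, mem_stabilizer_iff.1 hk.2, cj_eq_of_mem_centralizer
      (centralizer_le ((cj_mono _ h.1).trans (cj_normal _ A).le) (hA hk.1))]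
  have h5 : t⁻¹ * k * t ∈ L := h2 ⟨by simpa using hK.conj_mem k hk.1 t⁻¹, 
    mem_stabilizer_iff.2 (by rw [mul_smul, mul_smul, h4, inv_smul_smul])⟩
  have h6 := (mem_normalizer_iff.1 (hL s.2) _).1 h5
  rw [hs] at h6
  convert h6 using 1
  group

theorem exists_max_comm {E Z : Subgroup H} (hZ : Z ≤ E) (hc : Z ≤ 𝐂(Z)) :
    ∃ A, Z ≤ A ∧ A ≤ E ∧ A ≤ 𝐂(A) ∧ E ⊓ 𝐂(A) ≤ A := by
  obtain ⟨A, ⟨h1, h2, h3⟩, hm⟩ := Set.exists_max_image
    {C : Subgroup H | Z ≤ C ∧ C ≤ E ∧ C ≤ 𝐂(C)} (fun C => Nat.card C)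
    (Set.toFinite _) ⟨Z, le_rfl, hZ, hc⟩
  refine ⟨A, h1, h2, h3, fun e he => ?_⟩
  have h4 : A ⊔ zpowers e ≤ 𝐂(A) := sup_le h3 (zpowers_le.2 he.2)
  have h5 : A ⊔ zpowers e ≤ 𝐂(zpowers e) := sup_le (le_centralizer_iff.1 (zpowers_le.2 he.2))
    (le_centralizer _)
  have := hm (A ⊔ zpowers e) ⟨h1.trans le_sup_left, sup_le h2 (zpowers_le.2 he.1),
    sup_le (le_centralizer_iff.1 h4) (le_centralizer_iff.1 h5)⟩
  rw [eq_of_le_of_card_ge (le_sup_left : A ≤ A ⊔ zpowers e) this]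
  exact mem_sup_right (mem_zpowers e)

theorem extra_case {p : ℕ} [hp : Fact p.Prime] (ho : Odd p) [Nontrivial V]
    (hV : (Nat.card V).Coprime p)
    {K E : Subgroup H} {z : H} (hEK : E ≤ K) (hzE : z ∈ E) (hz1 : z ≠ 1) (hzK : K ≤ 𝐂[z])
    (hE : ∀ x ∈ E, x ^ p = 1) (hcm : ∀ e ∈ E, ∀ k ∈ K, k⁻¹ * e⁻¹ * k * e ∈ zpowers z)
    (hf : ∀ x ∈ zpowers z, x ≠ 1 → ∀ u : V, x • u = u → u = 1) :
    ∃ v : V, K ⊓ stabilizer H v ≤ 𝐂(E) := by
  classical
  obtain ⟨A, hZA, hAE, hA, hmax⟩ := exists_max_comm (zpowers_le.2 hzE) (le_centralizer _)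
  obtain ⟨B, u, hu, hBu, hB⟩ := exists_Mx (V := V) A
  have hzc : ∀ k ∈ K, ∀ c ∈ zpowers z, Commute c k := fun k hk c hc => by
    obtain ⟨i, rfl⟩ := hc
    exact (Commute.zpow_right (mem_centralizer_singleton_iff.1 (hzK hk)) i).symm
  have hpB : (Nat.card V).Coprime (Nat.card B) := by
    obtain ⟨n, hn⟩ := IsPGroup.exists_card_eq (p := p) (G := B) fun x =>
      ⟨1, Subtype.ext (by simpa using hE _ (hAE (hB.1 x.2)))⟩
    rw [hn]; exact hV.pow_right n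
  have hoz : orderOf z = p := orderOf_eq_prime (hE z hzE) hz1
  have hgen : ∀ a ∈ A, ∃ i : ℕ, a * z ^ i ∈ B := fun a ha => by
    obtain ⟨i, w, hw, h1, h2⟩ := cyc (V := V) (a := a) (z := z) (w := u)
      (hzc a (hEK (hAE ha)) z (mem_zpowers z)).symm (hE a (hAE ha)) (hE z hzE)
      (fun j h0 hj => hf _ (npow_mem_zpowers z j) (pow_ne_one_of_lt_orderOf h0.ne' (hoz ▸ hj)))
      (fun h0 => hu ((powCoprime hV).injective (by simpa using h0)))
    exact ⟨i, zpowers_le.1 (hB.le hB.1 (zpowers_le.2 (A.mul_mem ha (hZA (npow_mem_zpowers z i))))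
      rfl hw (fun b hb => h2 b (hA ha b (hB.1 hb))
        (hzc b (hEK (hAE (hB.1 hb))) z (mem_zpowers z)).symm (hBu hb)) (zpowers_le.2 h1))⟩
  have key : ∀ k ∈ K, cj k B = B → k ∈ 𝐂(A) := fun k hk h a ha => by
    obtain ⟨i, hi⟩ := hgen a ha
    have h1 := hcm _ (E.inv_mem (hAE (hB.1 hi))) _ (K.inv_mem hk)
    have h2 : k⁻¹⁻¹ * (a * z ^ i)⁻¹⁻¹ * k⁻¹ * (a * z ^ i)⁻¹ = 1 := by
      by_contra hne
      refine hu (hf _ h1 hne u (hBu (B.mul_mem ?_ (B.inv_mem hi))))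
      rw [inv_inv, inv_inv, ← h]; exact conj_mem_cj.2 hi
    rw [inv_inv, inv_inv, mul_inv_eq_one, mul_inv_eq_iff_eq_mul, mul_assoc,
      (hzc k hk _ (npow_mem_zpowers z i)).eq, ← mul_assoc, ← mul_assoc] at h2
    exact (mul_right_cancel h2).symm
  have hnA : K ≤ 𝐍(A) := fun k hk => mem_normalizer_of_cj_le (cj_le_iff.2 fun a ha => by
    have := A.mul_mem (hZA (hcm _ (E.inv_mem (hAE ha)) _ (K.inv_mem hk))) ha
    simpa using this)
  by_cases hEA : E ≤ A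
  · refine ⟨u, fun k hk => centralizer_le hEA (key k hk.1 (eq_of_le_of_card_ge
      (hB.le hB.1 ((cj_mono _ hB.1).trans (cj_eq_of_mem_normalizer (hnA hk.1)).le) rfl hu hBu ?_)
      (card_cj _ _).ge))⟩
    have := cj_le_stab hBu k
    rwa [mem_stabilizer_iff.1 hk.2] at this
  haveI := Fintype.ofFinite (E ⧸ A.subgroupOf E)
  set t : E ⧸ A.subgroupOf E → H := fun q => q.out with ht
  set T : Finset (E ⧸ A.subgroupOf E) := univ.erase ((1 : E) : E ⧸ A.subgroupOf E) with hT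
  set v := ∏ q ∈ T, t q • u with hv
  have htE : ∀ q, t q ∈ E := fun q => q.out.2
  have htN : ∀ q, t q ∈ 𝐍(A) := fun q => hnA (hEK (htE q))
  have hT' : ∀ q, q ∈ T ↔ t q ∉ A := fun q => by
    rw [hT, mem_erase, ← q.out_eq', Ne, QuotientGroup.eq, mem_subgroupOf]
    simp [ht]
  have s1 : ∀ C ≤ A, Nat.card C = Nat.card B → Nm C v ≠ 1 → ∃ e ∈ E, e ∉ A ∧ C = cj e B := by
    intro C hC hc hne
    by_contra hcon
    push Not at hcon
    exact hne (hB.prod_other hA T t htN hBu hC hc fun q hq => hcon _ (htE q) ((hT' q).1 hq))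
  have s2 : ∀ e ∈ E, e ∉ A → ∃ a ∈ A, Nm (cj e B) v = ((e * a) • u) ^ Nat.card B := by
    intro e he heA
    obtain ⟨a, ha⟩ := QuotientGroup.mk_out_eq_mul (A.subgroupOf E) ⟨e, he⟩
    have ha' : t (⟨e, he⟩ : E) = e * a := congrArg Subtype.val ha
    have haA : ((a : E) : H) ∈ A := a.2
    refine ⟨a, haA, ?_⟩
    have := hB.prod_self hA T t htN hBu (fun i j hij => by
      rw [← i.out_eq', ← j.out_eq', QuotientGroup.eq]
      have h1 := E.mul_mem (E.inv_mem (htE i)) (htE j)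
      have h2 : cj ((t i)⁻¹ * t j) B = B := by rw [cj_mul, ← hij, cj_inv_cj]
      exact hmax ⟨h1, key _ (hEK h1) h2⟩)
      ((hT' (⟨e, he⟩ : E)).2 (by rw [ha', A.mul_mem_cancel_right haA]; exact heA))
    rwa [ha', cj_mul, cj_eq_of_mem_centralizer (centralizer_le hB.1 (hA haA))] at this
  have s3 : ∀ e ∈ E, e ∉ A → Nm (cj e B) v ≠ 1 := fun e he heA h0 => by
    obtain ⟨a, -, ha⟩ := s2 e he heA
    rw [h0] at ha
    exact hu (smul_eq_one' ((powCoprime hpB).injective (by simpa using ha.symm)))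
  have cc : ∀ k ∈ K, ∀ e ∈ E, cj k (cj e B) = cj e (cj k B) := fun k hk e he => by
    have h1 : k * e = e * k * (k⁻¹ * e⁻¹ * k * e) := by group
    rw [← cj_mul, ← cj_mul, h1, cj_mul _ (k⁻¹ * e⁻¹ * k * e), cj_eq_of_mem_centralizer
      (g := k⁻¹ * e⁻¹ * k * e)
      fun b hb => (hzc b (hEK (hAE (hB.1 hb))) _ (hcm e he k hk)).symm]
  refine ⟨v, fun k hk => ?_⟩
  have inv : ∀ C, k • Nm C v = Nm (cj k C) v := fun C => by
    rw [smul_Nm, mem_stabilizer_iff.1 hk.2]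
  have inv' : ∀ C, Nm C v ≠ 1 → Nm (cj k C) v ≠ 1 := fun C h h0 =>
    h (smul_eq_one' ((inv C).trans h0))
  obtain ⟨e0, he0, he0A⟩ := SetLike.not_le_iff_exists.1 hEA
  have hkB : cj k B = B := by
    obtain ⟨e', he', -, h1⟩ := s1 _ ((cj_mono _ ((cj_mono _ hB.1).trans
      (cj_eq_of_mem_normalizer (hnA (hEK he0))).le)).trans (cj_eq_of_mem_normalizer (hnA hk.1)).le)
      (by rw [card_cj, card_cj]) (inv' _ (s3 e0 he0 he0A))
    rw [cc k hk.1 e0 he0, cj_eq_iff_eq_cj_inv, ← cj_mul] at h1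
    have hf := E.mul_mem (E.inv_mem he0) he'
    by_cases hfA : e0⁻¹ * e' ∈ A
    · rw [h1, cj_eq_of_mem_centralizer (centralizer_le hB.1 (hA hfA))]
    · have h2 := inv' _ (s3 _ (E.inv_mem hf) (by rwa [inv_mem_iff]))
      rw [cc k hk.1 _ (E.inv_mem hf), h1, cj_inv_cj] at h2
      obtain ⟨e, he, heA, h3⟩ := s1 B hB.1 rfl h2
      exact absurd (hmax ⟨he, key e (hEK he) h3.symm⟩) heA
  have hkA := key k hk.1 hkB
  have s4 : ∀ e ∈ E, e ∉ A → (e⁻¹ * k * e) • u = u := fun e he heA => by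
    obtain ⟨a, ha, h1⟩ := s2 e he heA
    have h2 : k • (e * a) • u = (e * a) • u := by
      refine fix_of_pow hpB ?_
      rw [← h1, inv, cc k hk.1 e he, hkB]
    have h3 : e⁻¹ * k * e = (e * a)⁻¹ * k * (e * a) := by
      have h4 : e⁻¹ * k * e = k * (k⁻¹ * e⁻¹ * k * e) := by group
      have h5 : Commute a (e⁻¹ * k * e) := by
        rw [h4]
        exact Commute.mul_right (hkA a ha) (hzc a (hEK (hAE ha)) _ (hcm e he k hk.1)).symm
      calc e⁻¹ * k * e = a⁻¹ * (a * (e⁻¹ * k * e)) := by group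
        _ = _ := by rw [h5.eq]; group
    rw [h3, mul_smul, mul_smul, h2, inv_smul_smul]
  intro e he
  by_cases heA : e ∈ A
  · exact hkA e heA
  have h1 := s4 e he heA
  have h2 := s4 (e * e) (E.mul_mem he he) (fun h => heA (by
    obtain ⟨m, hm⟩ := ho
    have := A.pow_mem h (m + 1)
    rwa [← pow_two, ← pow_mul, show 2 * (m + 1) = p + 1 by omega, pow_succ, hE e he, one_mul]
      at this))
  set c := k⁻¹ * e⁻¹ * k * e with hc
  have hcz := hcm e he k hk.1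
  have h3 : (e * e)⁻¹ * k * (e * e) = c * (e⁻¹ * k * e) := by
    have h4 : e⁻¹ * k * e = k * c := by rw [hc]; group
    calc (e * e)⁻¹ * k * (e * e) = e⁻¹ * (e⁻¹ * k * e) * e := by group
      _ = e⁻¹ * k * (c * e) := by rw [h4]; group
      _ = (e⁻¹ * k * e) * c := by rw [(hzc e (hEK he) c hcz).eq]; group
      _ = _ := (hzc _ (K.mul_mem (K.mul_mem (K.inv_mem (hEK he)) hk.1) (hEK he)) c hcz).eq.symm
  rw [h3, mul_smul, h1] at h2
  by_contra hne
  refine hu (hf c hcz (fun h0 => hne ?_) u h2)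
  calc e * k = e * k * c := by rw [h0, mul_one]
    _ = k * e := by rw [hc]; group

end Cfsg.Agent.INW
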