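import Cfsg.Agent.Lib.INW.Reg2
import Cfsg.Agent.Lib.Cover.Basic
import Cfsg.Agent.Lib.Ind.Clifford

/-! The Isaacs-Navarro-Wolf theorem on nonvanishing elements, odd primes. -/

set_option autoImplicit false

namespace Cfsg.Agent.INW

open Subgroup Cfsg.Agent.Tr Cfsg.Agent.FT Finset MulAction Cfsg.Agent.Fit Cfsg.Agent.Char
open scoped commutatorElement

universe v

theorem R_all {p : ℕ} [hp : Fact p.Prime] (ho : Odd p) (n : ℕ) :
    ∀ (V : Type v) [CommGroup V] [Finite V], Nat.card V = n → (Nat.card V).Coprime p → R p V := by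
  induction n using Nat.strong_induction_on with | _ n ih => ?_
  intro V _ _ hn hV
  have IH : ∀ W : Subgroup V, W ≠ ⊤ → R p W := fun W hW =>
    ih _ (hn ▸ (card_lt_of_lt (lt_top_iff_ne_top.2 hW)).trans_eq card_top) W rfl
      (hV.coprime_dvd_left (card_subgroup_dvd_card W))
  refine R_of_faithful fun H _ _ _ _ K hK hpK hK1 => ?_
  haveI := Fintype.ofFinite H
  set A := Ohm1 p 𝐙(K) with hAdef
  have hA1 : A ≠ ⊥ := Ohm1_center_ne_bot hpK hK1
  have memA : ∀ x, x ∈ A ↔ x ∈ 𝐙(K) ∧ x ^ p = 1 := fun x => mem_Ohm1_abelian (center_abelian K)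
  have hAK : A ≤ K := fun x hx => ((memA x).1 hx).1.1
  have hKA : K ≤ 𝐂(A) := le_centralizer_iff.1 fun x hx => ((memA x).1 hx).1.2
  haveI : A.Normal := normalizer_eq_top_iff.1 (eq_top_iff.2 (norms_Ohm1 p
    ((normalizer_eq_top K).ge.trans (center_norm K))))
  have cop : ∀ B ≤ K, (Nat.card V).Coprime (Nat.card B) := fun B hB => by
    obtain ⟨m, hm⟩ := (hpK.to_le hB).exists_card_eq
    rw [hm]; exact hV.pow_right m
  obtain ⟨z, hzA, hz1⟩ := (A.bot_or_exists_ne_one).resolve_left hA1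
  have hzv : ∃ v : V, z • v ≠ v := by
    by_contra hc
    push Not at hc
    exact hz1 (eq_of_smul_eq_smul (α := V) fun v => by rw [hc, one_smul])
  by_cases hfix : ∃ u : V, u ≠ 1 ∧ A ≤ stabilizer H u
  · obtain ⟨u, hu, hAu⟩ := hfix
    obtain ⟨w, -, L, h1, h2, h3⟩ := (IH (Nm (V := V) A).ker (fun h => hu (by
      have : u ∈ (Nm (V := V) A).ker := h ▸ mem_top u
      rw [MonoidHom.mem_ker, Nm_fix hAu] at this
      exact (powCoprime (cop A hAK)).injective (by simpa using this)))).sub hpK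
      (le_top : K ≤ ⊤) (fun g _ w hw => by
        rw [MonoidHom.mem_ker] at hw ⊢
        rw [← cj_normal g A, ← smul_Nm, hw, smul_one]) (by
        by_contra hc
        push Not at hc
        obtain ⟨v, hv⟩ := hzv
        have h1 : z • v * v⁻¹ ∈ (Nm (V := V) A).ker := by
          rw [MonoidHom.mem_ker, map_mul, Nm_smul hzA, map_inv, mul_inv_cancel]
        have h2 := Nm_fix (B := A) (v := z • v * v⁻¹) fun a ha => hc a (hAK ha) _ h1
        rw [MonoidHom.mem_ker.1 h1] at h2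
        exact hv (mul_inv_eq_one.1 ((powCoprime (cop A hAK)).injective (by simpa using h2.symm))))
    exact ⟨w, L, normalizer_eq_top_iff.1 (eq_top_iff.2 h1), h2, h3⟩
  push Not at hfix
  haveI : Nontrivial V := by
    obtain ⟨v, hv⟩ := hzv
    exact ⟨_, _, hv⟩
  obtain ⟨B, u, hu, hBu, hB⟩ := exists_Mx (V := V) A
  by_cases hB1 : B ≠ ⊥
  · obtain ⟨w, hw, L, h1, h2, h3⟩ := (IH (FixedPoints.subgroup B V) (fun h => hB1 (by
      rw [eq_bot_iff]
      intro b hb
      refine eq_of_smul_eq_smul (α := V) fun v => ?_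
      have : v ∈ FixedPoints.subgroup B V := h ▸ mem_top v
      rw [one_smul]; exact this ⟨b, hb⟩))).sub hpK
      (hKA.trans ((centralizer_le hB.1).trans (centralizer_le_normalizer _)) : K ≤ 𝐍(B))
      (fun g hg w hw b => by
        have := cj_le_stab (B := B) (w := w) (fun c hc => hw ⟨c, hc⟩) g
        rw [cj_eq_of_mem_normalizer hg] at this
        exact this b.2) (by
        obtain ⟨a, ha, hau⟩ := SetLike.not_le_iff_exists.1 (hfix u hu)
        exact ⟨a, hAK ha, u, fun b => hBu b.2, hau⟩)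
    exact central_case hKA hAK (cop B (hB.1.trans hAK)) hB (fun c hc => hw ⟨c, hc⟩) h1 h2 h3
  push Not at hB1
  subst hB1
  have hf : ∀ x ∈ A, x ≠ 1 → ∀ u : V, x • u = u → u = 1 := fun x hx h1 w hw => by
    by_contra hne
    exact h1 (zpowers_le.1 (hB.le bot_le (zpowers_le.2 hx) rfl hne bot_le (zpowers_le.2 hw)))
  have hoz : orderOf z = p := orderOf_eq_prime ((memA z).1 hzA).2 hz1
  have hAz : A ≤ zpowers z := fun a ha => by
    obtain ⟨i, w, hw, h1, -⟩ := cyc (V := V) (a := a) (z := z) (w := u)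
      (hKA (hAK hzA) a ha) ((memA a).1 ha).2 ((memA z).1 hzA).2
      (fun j h0 hj => hf _ (A.pow_mem hzA j) (pow_ne_one_of_lt_orderOf h0.ne' (hoz ▸ hj)))
      (fun h0 => hu ((powCoprime hV).injective (by simpa using h0)))
    by_contra hc
    refine hw (hf _ (A.mul_mem ha (A.pow_mem hzA i)) (fun h0 => hc ?_) w h1)
    rw [eq_inv_of_mul_eq_one_left h0]
    exact inv_mem (npow_mem_zpowers z i)
  by_cases hcyc : IsCyclic K
  · refine ⟨u, ⊥, inferInstance, fun h => hK1 (eq_bot_iff.2 h), le_of_eq ?_⟩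
    by_contra hne
    obtain ⟨x, hx, hx1⟩ := (bot_or_exists_ne_one _).resolve_left
      (Ohm1_ne_bot (hpK.to_inf_left (K := stabilizer H u)) hne)
    have hc : IsMulCommutative K := inferInstance
    have h1 : x ∈ A := by rw [hAdef, center_idP.2 hc]; exact OhmS p inf_le_left hx
    exact hu (hf x h1 hx1 u (Ohm_sub p _ hx).2)
  obtain ⟨h1, h2⟩ := BG4P.Ohm1_odd_ucn2 hpK (by
    obtain ⟨m, hm⟩ := hpK.exists_card_eq
    rw [hm]; exact ho.pow) hcyc
  set E := Ohm1 p (Z2 K) with hE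
  have hEK : E ≤ K := (Ohm_sub p _).trans (ucn2_sub K)
  haveI : E.Normal := normal_iff_cj.2 fun g => by rw [hE, ← OhmJ, ← Z2J, cj_normal]
  obtain ⟨v, hv⟩ := extra_case (V := V) ho hV hEK
    (mem_Ohm1 (center_sub_Z2 K ((memA z).1 hzA).1) ((memA z).1 hzA).2) hz1
    (fun k hk => mem_centralizer_singleton_iff.2 (hKA hk z hzA).symm) h2
    (fun e he k hk => hAz ((memA _).2 (by
      have h3 := (mem_Z2.1 (inv_mem (Ohm_sub p _ he))).2 _ (inv_mem hk)
      have h4 : k⁻¹ * e⁻¹ * k * e ∈ 𝐙(K) := by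
        convert inv_mem h3 using 1; group
      refine ⟨h4, ?_⟩
      have h5 : Commute (k⁻¹ * e⁻¹ * k * e) e⁻¹ := centerC h4 (inv_mem (hEK he))
      have h6 : (k⁻¹ * e⁻¹ * k) ^ p = 1 := by
        have := conj_pow (i := p) (a := k⁻¹) (b := e⁻¹)
        rw [inv_inv, inv_pow, h2 e he] at this
        simpa using this
      have h7 := h5.mul_pow p
      rw [mul_inv_cancel_right, h6, inv_pow, h2 e he] at h7
      simpa using h7.symm)))
    (fun x hx => hf x (zpowers_le.2 hzA hx))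
  refine ⟨v, 𝐂(E), inferInstance, fun h => h1 ?_, hv⟩
  exact isCyclic_of_le (H' := zpowers z) fun e he => hAz ((memA e).2
    ⟨⟨hEK he, fun k hk => (h hk e he).symm⟩, h2 e he⟩)

/-- The conjugation action on linear characters of a normal subgroup. -/
@[reducible] def dualAct {X : Type*} [Group X] (K : Subgroup X) [K.Normal] :
    MulDistribMulAction X (K →* ℂˣ) where
  smul g l := l.comp (MulAut.conjNormal g⁻¹ : MulAut K).toMonoidHom
  one_smul l := by
    ext k
    change ((l (MulAut.conjNormal (1 : X)⁻¹ k) : ℂˣ) : ℂ) = _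
    simp
  mul_smul g h l := by
    ext k
    change ((l (MulAut.conjNormal (g * h)⁻¹ k) : ℂˣ) : ℂ) =
      l (MulAut.conjNormal h⁻¹ (MulAut.conjNormal g⁻¹ k))
    simp
  smul_mul g a b := rfl
  smul_one g := rfl

theorem inw {p : ℕ} [hp : Fact p.Prime] (ho : Odd p) (n : ℕ) :
    ∀ (G : Type v) [Group G] [Finite G] [Group.IsSolvable G], Nat.card G = n → ∀ x : G,
      (∀ χ : IrrCharacter G, χ.1 x ≠ 0) → ∀ m k : ℕ, (x ^ m) ^ p ^ k = 1 → x ^ m ∈ pCore p G := by
  induction n using Nat.strong_induction_on with | _ n ih => ?_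
  intro G _ _ _ hn x hx m k hy
  rcases subsingleton_or_nontrivial G with hG | hG
  · rw [Subsingleton.elim (x ^ m) 1]; exact one_mem _
  obtain ⟨N, r, hN, hN1, hr, hNc, hNr, hrN, -⟩ := exists_minimal_normal_elementary G
  have h1 := ih _ (hn ▸ card_quotient_lt hN1) (G ⧸ N) rfl (x : G ⧸ N)
    (fun χ => hx ⟨_, isIrr_comp_of_surjective χ.2 _ (QuotientGroup.mk'_surjective N)⟩) m k
    (by rw [← QuotientGroup.mk_pow, ← QuotientGroup.mk_pow, hy, QuotientGroup.mk_one])
  set Q := (pCore p (G ⧸ N)).comap (QuotientGroup.mk' N) with hQ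
  have hyQ : x ^ m ∈ Q := h1
  by_cases hrp : r = p
  · subst hrp
    exact le_pCore inferInstance ((isPGroup_pCore r _).comap_of_ker_isPGroup _
      (by rwa [QuotientGroup.ker_mk'])) hyQ
  letI := dualAct N
  have sm : ∀ (g : G) (l : N →* ℂˣ) (k : N), (g • l) k = l (MulAut.conjNormal g⁻¹ k) :=
    fun _ _ _ => rfl
  haveI := Fact.mk hr
  by_cases hc : ∃ k ∈ normalClosure {x ^ m}, ∃ l : N →* ℂˣ, k • l ≠ l
  · exfalso
    obtain ⟨l, L, hL, h2, h3⟩ := R_all ho _ (N →* ℂˣ) rfl (by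
      obtain ⟨j, hj⟩ := IsPGroup.exists_card_eq (p := r) (G := N →* ℂˣ) fun l =>
        ⟨1, by ext a; simp [← map_pow, show a ^ r = 1 from Subtype.ext (hNr a a.2)]⟩
      rw [hj]; exact ((Nat.coprime_primes hr hp.out).2 hrp).pow_left j) G _ inferInstance
      (fun g hg => by
        obtain ⟨j, hj⟩ := isPGroup_pCore p (G ⧸ N)
          ⟨g, normalClosure_le_normal (Set.singleton_subset_iff.2 hyQ) hg⟩
        have h4 : g ^ p ^ j ∈ N := (QuotientGroup.eq_one_iff _).1 (congrArg Subtype.val hj)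
        refine ⟨j, fun l => ?_⟩
        ext a
        rw [sm]
        have : MulAut.conjNormal (g ^ p ^ j)⁻¹ a = (⟨_, h4⟩ : N)⁻¹ * a * ⟨_, h4⟩ := by
          ext; rw [MulAut.conjNormal_apply]; simp
        rw [this]; simp) hc
    haveI := Fintype.ofFinite G
    haveI := Fintype.ofFinite N
    obtain ⟨χ, hχ⟩ := Cover.exists_over N ⟨_, isIrr_unitsHom l⟩
    rw [Cover.over_iff] at hχ
    haveI := Fintype.ofFinite (Ind.inertia N fun g => (l g : ℂ))
    obtain ⟨ψ, -, -, h4⟩ := Ind.exists_indFun_inertia N χ.2 (isIrr_unitsHom l) hχ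
    refine hx χ (h4 ▸ Ind.indFun_eq_zero _ _ fun g hg => h2 ?_)
    have h5 : g⁻¹ * x ^ m * g ∈ stabilizer G l := by
      have h6 := pow_mem (inv_mem hg) m
      have h7 := conj_pow (i := m) (a := g⁻¹) (b := x)
      rw [inv_inv] at h7
      rw [inv_pow, h7, Ind.mem_inertia, Ind.cjf_eq, funext_iff] at h6
      rw [mem_stabilizer_iff]
      ext a
      exact h6 a
    have h6 := hL.conj_mem _ (h3 ⟨by simpa using (normalClosure_normal.conj_mem _
      (subset_normalClosure (Set.mem_singleton _)) g⁻¹), h5⟩) g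
    exact normalClosure_le_normal (Set.singleton_subset_iff.2 (by simpa [mul_assoc] using h6))
  push Not at hc
  have h2 : x ^ m ∈ 𝐂(N) := fun a ha => by
    letI : CommGroup N := IsMulCommutative.instCommGroup
    by_contra hne
    obtain ⟨φ, hφ⟩ := CommGroup.exists_apply_ne_one_of_hasEnoughRootsOfUnity N ℂ
      (a := MulAut.conjNormal (x ^ m)⁻¹ ⟨a, ha⟩ * (⟨a, ha⟩ : N)⁻¹) (fun h0 => hne (by
        have := congrArg Subtype.val (mul_inv_eq_one.1 h0)
        simp only [MulAut.conjNormal_apply, inv_inv] at this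
        rw [mul_assoc, inv_mul_eq_iff_eq_mul] at this
        exact this))
    have h3 := DFunLike.congr_fun (hc _ (subset_normalClosure (Set.mem_singleton _)) φ) ⟨a, ha⟩
    rw [sm] at h3
    exact hφ (by rw [map_mul, h3, map_inv, mul_inv_cancel])
  have h3 : Group.IsNilpotent ↥(Q ⊓ 𝐂(N)) := by
    haveI := (isPGroup_pCore p (G ⧸ N)).isNilpotent
    refine Subgroup.isNilpotent_of_ker_le_center
      (((QuotientGroup.mk' N).comp (Q ⊓ 𝐂(N)).subtype).codRestrict (pCore p (G ⧸ N))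
        fun a => a.2.1) fun a ha => ?_
    have h4 : (a : G) ∈ N := (QuotientGroup.eq_one_iff _).1 (congrArg Subtype.val ha)
    exact mem_center_iff.2 fun b => Subtype.ext (b.2.2 a h4).symm
  exact zpowers_le.1 (le_pCore_of_le_fitting hp.out (isPGroup_zpowers hy)
    (zpowers_le.2 (le_fitting inferInstance h3 ⟨hyQ, h2⟩)))

end Cfsg.Agent.INW
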